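import Cfsg.Agent.Helper28.Fi23C.LvD3
set_option autoImplicit false
set_option maxRecDepth 1000000
namespace Cfsg.Agent.Helper28.Fi23C
open Cfsg.Agent.Helper28 Cfsg.Agent.Helper28.Fi23a
theorem orb_ok3_p0 : allLtFrom (orbOkW ws3 2 ptabs orb3) 0 19986 = true := by decide +kernel
theorem orb_ok3_p1 : allLtFrom (orbOkW ws3 2 ptabs orb3) 19986 11177 = true := by decide +kernel
theorem orb_ok3_p2 : allLtFrom (orbOkW ws3 2 ptabs orb3) 31163 508 = true := by decide +kernel
theorem let_ok3 : lettersOkW ws3 2 ptabs.L = true := by decide +kernel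
theorem fix_ok3 : fixOkW ws3 2 ptabs [1, 0] = true := by decide +kernel
theorem cnt3 : countEq (fun j => oRoot (orb3 j)) 7797 31671 = 21840 := by decide +kernel
end Cfsg.Agent.Helper28.Fi23C
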