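import Cfsg.Agent.Helper28.Fi23C.LvD4
set_option autoImplicit false
set_option maxRecDepth 1000000
namespace Cfsg.Agent.Helper28.Fi23C
open Cfsg.Agent.Helper28 Cfsg.Agent.Helper28.Fi23a
theorem orb_ok4_p4 : allLtFrom (orbOkW ws4 4 ptabs orb4) 21662 2677 = true := by decide +kernel
theorem orb_ok4_p5 : allLtFrom (orbOkW ws4 4 ptabs orb4) 24339 2453 = true := by decide +kernel
theorem orb_ok4_p6 : allLtFrom (orbOkW ws4 4 ptabs orb4) 26792 2816 = true := by decide +kernel
theorem orb_ok4_p7 : allLtFrom (orbOkW ws4 4 ptabs orb4) 29608 2063 = true := by decide +kernel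
end Cfsg.Agent.Helper28.Fi23C
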