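import Cfsg.Agent.Helper28.Fi23C.LvD5
set_option autoImplicit false
set_option maxRecDepth 1000000
namespace Cfsg.Agent.Helper28.Fi23C
open Cfsg.Agent.Helper28 Cfsg.Agent.Helper28.Fi23a
theorem orb_ok5_p0 : allLtFrom (orbOkW ws5 3 ptabs orb5) 0 31671 = true := by decide +kernel
theorem let_ok5 : lettersOkW ws5 3 ptabs.L = true := by decide +kernel
theorem fix_ok5 : fixOkW ws5 3 ptabs [19419, 7797, 1, 0] = true := by decide +kernel
theorem cnt5 : countEq (fun j => oRoot (orb5 j)) 17833 31671 = 27 := by decide +kernel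
end Cfsg.Agent.Helper28.Fi23C
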