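import Cfsg.Agent.Helper28.Fi23C.LvC1_0
import Cfsg.Agent.Helper28.Fi23C.LvC2_0
import Cfsg.Agent.Helper28.Fi23C.LvC3_0
import Cfsg.Agent.Helper28.Fi23C.LvC4_0
import Cfsg.Agent.Helper28.Fi23C.LvC4_1
import Cfsg.Agent.Helper28.Fi23C.LvC5_0
set_option autoImplicit false
set_option maxRecDepth 1000000
namespace Cfsg.Agent.Helper28.Fi23C
open Cfsg.Agent.Helper28 Cfsg.Agent.Helper28.Fi23a
theorem orb_ok1 : checkOrbW ws1 10 ptabs orb1 = true := by
  have h0 : allLt (orbOkW ws1 10 ptabs orb1) 31671 = true := allLt_extend _ 0 31671 31671 rfl (allLt_zero _) orb_ok1_p0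
  exact h0
theorem orb_ok2 : checkOrbW ws2 9 ptabs orb2 = true := by
  have h0 : allLt (orbOkW ws2 9 ptabs orb2) 31671 = true := allLt_extend _ 0 31671 31671 rfl (allLt_zero _) orb_ok2_p0
  exact h0
theorem orb_ok3 : checkOrbW ws3 2 ptabs orb3 = true := by
  have h0 : allLt (orbOkW ws3 2 ptabs orb3) 19986 = true := allLt_extend _ 0 19986 19986 rfl (allLt_zero _) orb_ok3_p0
  have h1 : allLt (orbOkW ws3 2 ptabs orb3) 31163 = true := allLt_extend _ 19986 11177 31163 rfl h0 orb_ok3_p1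
  have h2 : allLt (orbOkW ws3 2 ptabs orb3) 31671 = true := allLt_extend _ 31163 508 31671 rfl h1 orb_ok3_p2
  exact h2
theorem orb_ok4 : checkOrbW ws4 4 ptabs orb4 = true := by
  have h0 : allLt (orbOkW ws4 4 ptabs orb4) 9996 = true := allLt_extend _ 0 9996 9996 rfl (allLt_zero _) orb_ok4_p0
  have h1 : allLt (orbOkW ws4 4 ptabs orb4) 14684 = true := allLt_extend _ 9996 4688 14684 rfl h0 orb_ok4_p1
  have h2 : allLt (orbOkW ws4 4 ptabs orb4) 18488 = true := allLt_extend _ 14684 3804 18488 rfl h1 orb_ok4_p2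
  have h3 : allLt (orbOkW ws4 4 ptabs orb4) 21662 = true := allLt_extend _ 18488 3174 21662 rfl h2 orb_ok4_p3
  have h4 : allLt (orbOkW ws4 4 ptabs orb4) 24339 = true := allLt_extend _ 21662 2677 24339 rfl h3 orb_ok4_p4
  have h5 : allLt (orbOkW ws4 4 ptabs orb4) 26792 = true := allLt_extend _ 24339 2453 26792 rfl h4 orb_ok4_p5
  have h6 : allLt (orbOkW ws4 4 ptabs orb4) 29608 = true := allLt_extend _ 26792 2816 29608 rfl h5 orb_ok4_p6
  have h7 : allLt (orbOkW ws4 4 ptabs orb4) 31671 = true := allLt_extend _ 29608 2063 31671 rfl h6 orb_ok4_p7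
  exact h7
theorem orb_ok5 : checkOrbW ws5 3 ptabs orb5 = true := by
  have h0 : allLt (orbOkW ws5 3 ptabs orb5) 31671 = true := allLt_extend _ 0 31671 31671 rfl (allLt_zero _) orb_ok5_p0
  exact h0

theorem lower_bound : 4089470473293004800 ≤ Nat.card ↥(KK idx 10 ptabs inv_ok layout.hL) := by
  have h5 := level_ge gen idx 10 ptabs inv_ok layout.hL layout.hig ws5 3 let_ok5 [19419, 7797, 1, 0] fix_ok5 orb5 orb_ok5 17833 (by decide +kernel) 27 1 cnt5 (one_le_card_sub _)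
  have h4 := level_ge gen idx 10 ptabs inv_ok layout.hL layout.hig ws4 4 let_ok4 [7797, 1, 0] fix_ok4 orb4 orb_ok4 19419 (by decide +kernel) 7776 (27 * 1) cnt4 h5
  have h3 := level_ge gen idx 10 ptabs inv_ok layout.hL layout.hig ws3 2 let_ok3 [1, 0] fix_ok3 orb3 orb_ok3 7797 (by decide +kernel) 21840 (7776 * 27 * 1) cnt3 h4
  have h2 := level_ge gen idx 10 ptabs inv_ok layout.hL layout.hig ws2 9 let_ok2 [0] fix_ok2 orb2 orb_ok2 1 (by decide +kernel) 28160 (21840 * 7776 * 27 * 1) cnt2 h3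
  have h1 := level_ge gen idx 10 ptabs inv_ok layout.hL layout.hig ws1 10 let_ok1 [] fix_ok1 orb1 orb_ok1 0 (by decide +kernel) 31671 (28160 * 21840 * 7776 * 27 * 1) cnt1 h2
  rw [card_level0N]
  exact le_trans (by norm_num) h1

end Cfsg.Agent.Helper28.Fi23C
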