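import Cfsg.Agent.Helper28.Fi23Sub
import Cfsg.Agent.Helper28.Fi23a.Main
import Cfsg.Agent.Helper28.Fi23P1.Main
import Cfsg.Agent.Helper28.Fi23P2.Main
import Cfsg.Agent.Helper28.Fi23P3.Main
import Cfsg.Agent.Helper28.Fi23P4.Main
set_option autoImplicit false
set_option linter.constructorNameAsVariable false
namespace Cfsg.Agent.Helper28.Fi23C
open Cfsg.Agent.Helper28 Cfsg.Spor

theorem hY0 : Fi23a.Y = Set.range (fun z => FreeGroup.of (Fi23P1D.iota z)) := by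
  ext y
  constructor
  · intro (h : y ∈ Fi23a.Ylist)
    simp only [Fi23a.Ylist, List.mem_cons, List.not_mem_nil, or_false] at h
    rcases h with rfl | rfl | rfl | rfl | rfl | rfl | rfl | rfl | rfl
    exacts [⟨.a, rfl⟩, ⟨.b, rfl⟩, ⟨.c, rfl⟩, ⟨.d, rfl⟩, ⟨.e, rfl⟩, ⟨.f, rfl⟩, ⟨.g, rfl⟩, ⟨.h, rfl⟩, ⟨.i, rfl⟩]
  · rintro ⟨z, rfl⟩
    show _ ∈ Fi23a.Ylist
    cases z <;> simp [Fi23a.Ylist, Fi23P1D.iota]

theorem hY1 : Fi23P1.Y = Set.range (fun z => FreeGroup.of (Fi23P2D.iota z)) := by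
  ext y
  constructor
  · intro (h : y ∈ Fi23P1.Ylist)
    simp only [Fi23P1.Ylist, List.mem_cons, List.not_mem_nil, or_false] at h
    rcases h with rfl | rfl | rfl | rfl | rfl | rfl | rfl | rfl
    exacts [⟨.b, rfl⟩, ⟨.c, rfl⟩, ⟨.d, rfl⟩, ⟨.e, rfl⟩, ⟨.f, rfl⟩, ⟨.g, rfl⟩, ⟨.h, rfl⟩, ⟨.i, rfl⟩]
  · rintro ⟨z, rfl⟩
    show _ ∈ Fi23P1.Ylist
    cases z <;> simp [Fi23P1.Ylist, Fi23P2D.iota]

theorem hY2 : Fi23P2.Y = Set.range (fun z => FreeGroup.of (Fi23P3D.iota z)) := by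
  ext y
  constructor
  · intro (h : y ∈ Fi23P2.Ylist)
    simp only [Fi23P2.Ylist, List.mem_cons, List.not_mem_nil, or_false] at h
    rcases h with rfl | rfl | rfl | rfl | rfl | rfl | rfl
    exacts [⟨.c, rfl⟩, ⟨.d, rfl⟩, ⟨.e, rfl⟩, ⟨.f, rfl⟩, ⟨.g, rfl⟩, ⟨.h, rfl⟩, ⟨.i, rfl⟩]
  · rintro ⟨z, rfl⟩
    show _ ∈ Fi23P2.Ylist
    cases z <;> simp [Fi23P2.Ylist, Fi23P3D.iota]

theorem hY3 : Fi23P3.Y = Set.range (fun z => FreeGroup.of (Fi23P4D.iota z)) := by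
  ext y
  constructor
  · intro (h : y ∈ Fi23P3.Ylist)
    simp only [Fi23P3.Ylist, List.mem_cons, List.not_mem_nil, or_false] at h
    rcases h with rfl | rfl | rfl | rfl | rfl | rfl
    exacts [⟨.d, rfl⟩, ⟨.e, rfl⟩, ⟨.f, rfl⟩, ⟨.g, rfl⟩, ⟨.h, rfl⟩, ⟨.i, rfl⟩]
  · rintro ⟨z, rfl⟩
    show _ ∈ Fi23P3.Ylist
    cases z <;> simp [Fi23P3.Ylist, Fi23P4D.iota]

theorem hY4 : Fi23P4.Y = ∅ := by
  ext y; simp [Fi23P4.Ylist]

theorem upper4 : Finite (PresentedGroup Fi23P4.R) ∧ Nat.card (PresentedGroup Fi23P4.R) = 5040 :=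
  card_of_index_bot Fi23P4.R Fi23P4.Y hY4 5040 (by omega) Fi23P4.main_index

theorem upper3 : Finite (PresentedGroup Fi23P3.R) ∧
    Nat.card (PresentedGroup Fi23P3.R) ≤ 576 * 5040 := by
  obtain ⟨h1, h2, -⟩ := card_le_of_link Fi23P4D.iota Fi23P4.R Fi23P3.R Fi23P4D.hrels
    Fi23P3.Y hY3 576 (5040) (by omega) Fi23P3.main_index upper4.1 (le_of_eq upper4.2)
  exact ⟨h1, h2⟩

theorem upper2 : Finite (PresentedGroup Fi23P2.R) ∧
    Nat.card (PresentedGroup Fi23P2.R) ≤ 3159 * (576 * 5040) := by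
  obtain ⟨h1, h2, -⟩ := card_le_of_link Fi23P3D.iota Fi23P3.R Fi23P2.R Fi23P3D.hrels
    Fi23P2.Y hY2 3159 (576 * 5040) (by omega) Fi23P2.main_index upper3.1 upper3.2
  exact ⟨h1, h2⟩

theorem upper1 : Finite (PresentedGroup Fi23P1.R) ∧
    Nat.card (PresentedGroup Fi23P1.R) ≤ 14080 * (3159 * (576 * 5040)) := by
  obtain ⟨h1, h2, -⟩ := card_le_of_link Fi23P2D.iota Fi23P2.R Fi23P1.R Fi23P2D.hrels
    Fi23P1.Y hY1 14080 (3159 * (576 * 5040)) (by omega) Fi23P1.main_index upper2.1 upper2.2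
  exact ⟨h1, h2⟩

theorem upper0 : Finite (PresentedGroup Fi23a.R) ∧
    Nat.card (PresentedGroup Fi23a.R) ≤ 31671 * (14080 * (3159 * (576 * 5040))) := by
  obtain ⟨h1, h2, -⟩ := card_le_of_link Fi23P1D.iota Fi23P1.R Fi23a.R Fi23P1D.hrels
    Fi23a.Y hY0 31671 (14080 * (3159 * (576 * 5040))) (by omega) Fi23a.main_index upper1.1 upper1.2
  exact ⟨h1, h2⟩

theorem upper : Finite (PresentedGroup Fi23a.R) ∧ Nat.card (PresentedGroup Fi23a.R) ≤ 4089470473293004800 :=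
  ⟨upper0.1, le_trans upper0.2 (by norm_num)⟩

end Cfsg.Agent.Helper28.Fi23C
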