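import Cfsg.Agent.Helper28.Fi23C.XW
set_option autoImplicit false
set_option maxRecDepth 1000000
namespace Cfsg.Agent.Helper28.Fi23C
open Cfsg.Agent.Helper28 Cfsg.Agent.Helper28.Fi23a Cfsg.Spor

theorem xp_0 : permPieceF (fun _ => wp) letSel 0 1 0 2000 = true := by decide +kernel
theorem xp_2000 : permPieceF (fun _ => wp) letSel 0 1 2000 2000 = true := by decide +kernel
theorem xp_4000 : permPieceF (fun _ => wp) letSel 0 1 4000 2000 = true := by decide +kernel
theorem xp_6000 : permPieceF (fun _ => wp) letSel 0 1 6000 2000 = true := by decide +kernel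
end Cfsg.Agent.Helper28.Fi23C
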