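import Cfsg.Agent.Helper28.Fi23C.Chain
import Cfsg.Agent.Helper28.Fi23C.Upper
import Cfsg.Agent.Helper28.Fi23Q.Main
import Cfsg.Agent.Helper28.ChainMain
import Cfsg.Agent.Helper28.Fi23C.XP0
import Cfsg.Agent.Helper28.Fi23C.XP1
import Cfsg.Agent.Helper28.Fi23C.XP2
import Cfsg.Agent.Helper28.Fi23C.XP3
set_option autoImplicit false
set_option maxRecDepth 1000000
namespace Cfsg.Agent.Helper28.Fi23C
open Cfsg.Agent.Helper28 Cfsg.Agent.Helper28.Fi23a Cfsg.Spor

theorem hrels : ∀ r ∈ Fi23a.R, rhoF idx 10 ptabs inv_ok layout.hL r = 1 :=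
  layout.hrels inv_ok hperm_all

theorem card_inj : Nat.card (PresentedGroup Fi23a.R) = 4089470473293004800 ∧
    Function.Injective (rhoG Fi23a.R idx 10 ptabs inv_ok layout.hL hrels) :=
  card_eq_and_injective Fi23a.R idx 10 ptabs inv_ok layout.hL hrels 4089470473293004800 upper.1 upper.2 lower_bound

theorem xfix_all : TraceFix ptabs.perm (fun _ => wp) 0 1 31671 := by
  have h0 : TraceFix ptabs.perm (fun _ => wp) 0 1 2000 := traceFix_extendF _ _ letSel perm_eq 0 1 0 2000 2000 rfl (traceFix_zero _ _ 0 1) xp_0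
  have h1 : TraceFix ptabs.perm (fun _ => wp) 0 1 4000 := traceFix_extendF _ _ letSel perm_eq 0 1 2000 2000 4000 rfl h0 xp_2000
  have h2 : TraceFix ptabs.perm (fun _ => wp) 0 1 6000 := traceFix_extendF _ _ letSel perm_eq 0 1 4000 2000 6000 rfl h1 xp_4000
  have h3 : TraceFix ptabs.perm (fun _ => wp) 0 1 8000 := traceFix_extendF _ _ letSel perm_eq 0 1 6000 2000 8000 rfl h2 xp_6000
  have h4 : TraceFix ptabs.perm (fun _ => wp) 0 1 10000 := traceFix_extendF _ _ letSel perm_eq 0 1 8000 2000 10000 rfl h3 xp_8000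
  have h5 : TraceFix ptabs.perm (fun _ => wp) 0 1 12000 := traceFix_extendF _ _ letSel perm_eq 0 1 10000 2000 12000 rfl h4 xp_10000
  have h6 : TraceFix ptabs.perm (fun _ => wp) 0 1 14000 := traceFix_extendF _ _ letSel perm_eq 0 1 12000 2000 14000 rfl h5 xp_12000
  have h7 : TraceFix ptabs.perm (fun _ => wp) 0 1 16000 := traceFix_extendF _ _ letSel perm_eq 0 1 14000 2000 16000 rfl h6 xp_14000
  have h8 : TraceFix ptabs.perm (fun _ => wp) 0 1 18000 := traceFix_extendF _ _ letSel perm_eq 0 1 16000 2000 18000 rfl h7 xp_16000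
  have h9 : TraceFix ptabs.perm (fun _ => wp) 0 1 20000 := traceFix_extendF _ _ letSel perm_eq 0 1 18000 2000 20000 rfl h8 xp_18000
  have h10 : TraceFix ptabs.perm (fun _ => wp) 0 1 22000 := traceFix_extendF _ _ letSel perm_eq 0 1 20000 2000 22000 rfl h9 xp_20000
  have h11 : TraceFix ptabs.perm (fun _ => wp) 0 1 24000 := traceFix_extendF _ _ letSel perm_eq 0 1 22000 2000 24000 rfl h10 xp_22000
  have h12 : TraceFix ptabs.perm (fun _ => wp) 0 1 26000 := traceFix_extendF _ _ letSel perm_eq 0 1 24000 2000 26000 rfl h11 xp_24000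
  have h13 : TraceFix ptabs.perm (fun _ => wp) 0 1 28000 := traceFix_extendF _ _ letSel perm_eq 0 1 26000 2000 28000 rfl h12 xp_26000
  have h14 : TraceFix ptabs.perm (fun _ => wp) 0 1 30000 := traceFix_extendF _ _ letSel perm_eq 0 1 28000 2000 30000 rfl h13 xp_28000
  have h15 : TraceFix ptabs.perm (fun _ => wp) 0 1 31671 := traceFix_extendF _ _ letSel perm_eq 0 1 30000 1671 31671 rfl h14 xp_30000
  exact h15

theorem hrelp : relOk ptabs wp 0 ptabs.n = true :=
  relOk_of_traceFix ptabs (fun _ => wp) 0 1 xfix_all 0 (le_refl 0) (by omega)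

theorem hYQ : Fi23Q.Y = ∅ := by
  ext y; simp [Fi23Q.Ylist]

theorem hnc : ∀ Nn : Subgroup (PresentedGroup Fi23a.R), Nn.Normal →
    PresentedGroup.mk Fi23a.R Fi23QD.xw ∈ Nn → Nn = ⊤ := by
  intro Nn hN hx
  refine normal_eq_top_of_collapse Fi23a.R Fi23Q.R Fi23QD.xw ?_
    (subsingleton_of_index_bot Fi23Q.R Fi23Q.Y hYQ Fi23Q.main_index) Nn hN hx
  intro r hr
  rcases hr with hr | hr
  · exact Or.inl (Or.inl hr)
  · have hr' : r ∈ Fi23.extra ++ [Fi23QD.xw] := hr
    rcases List.mem_append.mp hr' with h | h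
    · exact Or.inl (Or.inr h)
    · exact Or.inr (List.mem_singleton.mp h)

/-- sizes of the orbits of the point stabiliser -/
def sz (t : ℕ) : ℕ := if t = 1 then 28160 else if t = 0 then 1 else 3510

theorem hsz : ∀ t ∈ [1, 0, 52].toFinset, countEq (fun j => oRoot (orb2 j)) t ptabs.n = sz t := by
  intro t ht
  simp only [List.toFinset_cons, List.toFinset_nil, Finset.mem_insert, Finset.mem_singleton,
    insert_empty_eq] at ht
  rcases ht with rfl | rfl | rfl
  · exact cnt2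
  · exact cnt2_0
  · exact cnt2_52

theorem hdiv : ∀ T ∈ ([1, 0, 52].toFinset : Finset ℕ).powerset, 0 ∈ T → (∑ t ∈ T, sz t) ∣ ptabs.n →
    T = {0} ∨ T = [1, 0, 52].toFinset := by
  decide

theorem simple : IsSimpleGroup (PresentedGroup Fi23a.R) :=
  simple_of_chain Fi23a.R gen idx 10 ptabs inv_ok layout.hL hrels 4089470473293004800 upper.1 card_inj.1 card_inj.2
    layout.hig hn ws1 10 let_ok1 fix_ok1 orb1 orb_ok1 root_ok1
    ws2 9 let_ok2 fix_ok2 orb2 orb_ok2 [1, 0, 52].toFinset (rootsOkW_sound orb2 _ _ roots_ok2) sz hsz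
    (by decide +kernel) rfl hdiv Fi23QD.xw 17 wp hwp hletp hrelp (by decide +kernel) hnc (by norm_num)

end Cfsg.Agent.Helper28.Fi23C
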