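import Cfsg.Agent.Helper28.Fi23a.Main
import Cfsg.Agent.Helper28.Fi23Sub
import Cfsg.Agent.Helper28.CosetFun
set_option autoImplicit false
set_option maxRecDepth 1000000
namespace Cfsg.Agent.Helper28.Fi23C
open Cfsg.Agent.Helper28 Cfsg.Agent.Helper28.Fi23a Cfsg.Spor

/-- the word of `x ^ 17` -/
def wp : List Nat := [4, 14, 16, 0, 10, 12, 8, 6, 2, 4, 14, 16, 0, 10, 12, 8, 6, 2, 4, 14, 16, 0, 10, 12, 8, 6, 2, 4, 14, 16, 0, 10, 12, 8, 6, 2, 4, 14, 16, 0, 10, 12, 8, 6, 2, 4, 14, 16, 0, 10, 12, 8, 6, 2, 4, 14, 16, 0, 10, 12, 8, 6, 2, 4, 14, 16, 0, 10, 12, 8, 6, 2, 4, 14, 16, 0, 10, 12, 8, 6, 2, 4, 14, 16, 0, 10, 12, 8, 6, 2, 4, 14, 16, 0, 10, 12, 8, 6, 2, 4, 14, 16, 0, 10, 12, 8, 6, 2, 4, 14, 16, 0, 10, 12, 8, 6, 2, 4, 14, 16, 0, 10, 12, 8, 6, 2, 4, 14, 16, 0, 10, 12, 8, 6, 2, 4, 14, 16, 0, 10,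 12, 8, 6, 2, 4, 14, 16, 0, 10, 12, 8, 6, 2]

theorem hwp : ev gen 10 wp = Fi23QD.xw ^ 17 := by decide +kernel
theorem hletp : ∀ l ∈ wp, l < ptabs.L := by decide +kernel
end Cfsg.Agent.Helper28.Fi23C
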